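import Mathlib
import Cfsg.Agent.H989.Gs.Gen
import Cfsg.Agent.UGT.U2.FOne.OrthJ
import Cfsg.Agent.Involutions.BaerSuzuki
import Cfsg.Agent.LieClassical.DicksonWeak
import Cfsg.Agent.LieClassical.OrthFinite

/-!
# S5719, orthogonal groups, `q` odd: fundamental involutions and Siegel groups (helper989)

* `Fund Q z` : `z ∈ E Q` is `-1` on a nondegenerate 4-space of plus type and `1` on its orthogonal space;
* `card_RS` : the order of the Siegel group;
* `exists_sing` : a subgroup `X` of `E Q` without fundamental involutions meets the Siegel group of some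
  singular vector in at most `q²` elements.
-/

set_option autoImplicit false
set_option maxHeartbeats 400000
set_option linter.unusedSimpArgs false
set_option linter.unusedVariables false
set_option linter.unusedSectionVars false

namespace Cfsg.Agent.H989.Fx

open QuadraticMap Cfsg.Agent.LieClassical Cfsg.Agent.LieClassical.OrthCore Cfsg.Agent.LieClassical.OrthTrans
  Cfsg.Agent.LieClassical.OrthSimple Cfsg.Agent.AutOrth.SemiSim Cfsg.Agent.AutOrth.Gen
  Cfsg.Agent.H989.Gs.Gen
open Cfsg.Agent.UGT.U2.FOne.Orth (Four tl tl_comb siegel_eq_tl)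
open Cfsg.Agent.LieClassical.SLTwoUnipotent (u l coe_u coe_l)
open Matrix (SpecialLinearGroup)

variable {F V : Type*} [Field F] [AddCommGroup V] [Module F V] {Q : QuadraticForm F V}

/-! ### Fundamental involutions -/

/-- `z` is `-1` on a nondegenerate 4-space of plus type and `1` on its orthogonal space -/
def Fund (Q : QuadraticForm F V) (z : ↥(E Q)) : Prop :=
  ∃ e₁ f₁ e₂ f₂ : V, Four Q e₁ f₁ e₂ f₂ ∧ ap z e₁ = -e₁ ∧ ap z f₁ = -f₁ ∧ ap z e₂ = -e₂ ∧ ap z f₂ = -f₂ ∧
    ∀ v, polar Q e₁ v = 0 → polar Q f₁ v = 0 → polar Q e₂ v = 0 → polar Q f₂ v = 0 → ap z v = v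

theorem fund_ap {z : ↥(E Q)} {e₁ f₁ e₂ f₂ : V} (h : Four Q e₁ f₁ e₂ f₂) (h1 : ap z e₁ = -e₁)
    (h2 : ap z f₁ = -f₁) (h3 : ap z e₂ = -e₂) (h4 : ap z f₂ = -f₂)
    (h5 : ∀ v, polar Q e₁ v = 0 → polar Q f₁ v = 0 → polar Q e₂ v = 0 → polar Q f₂ v = 0 → ap z v = v) (v : V) :
    ap z v = v - (2 : F) • (polar Q f₁ v • e₁ + polar Q e₁ v • f₁ + (polar Q f₂ v • e₂ + polar Q e₂ v • f₂)) := by
  obtain ⟨p1, p2, p3, p4, p5, p6, p7, p8, p9, p10, p11, p12, p13, p14, p15, p16⟩ := h.pols
  set d := polar Q f₁ v • e₁ + polar Q e₁ v • f₁ + (polar Q f₂ v • e₂ + polar Q e₂ v • f₂) with hd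
  have hd' : ap z d = -d := by
    rw [hd]
    simp only [ap_add, ap_smul, h1, h2, h3, h4]
    module
  have hv : ap z (v - d) = v - d := by
    apply h5
    · rw [polar_sub_right, hd]
      simp only [polar_add_right, polar_smul_right, smul_eq_mul, p1, p5, p9, p11]
      ring
    · rw [polar_sub_right, hd]
      simp only [polar_add_right, polar_smul_right, smul_eq_mul, p2, p6, p13, p15]
      ring
    · rw [polar_sub_right, hd]
      simp only [polar_add_right, polar_smul_right, smul_eq_mul, p3, p7, p10, p14]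
      ring
    · rw [polar_sub_right, hd]
      simp only [polar_add_right, polar_smul_right, smul_eq_mul, p4, p8, p12, p16]
      ring
  have h6 : ap z v = ap z (v - d) + ap z d := by rw [← ap_add, sub_add_cancel]
  rw [h6, hv, hd']
  module

theorem Fund.sq {z : ↥(E Q)} (hz : Fund Q z) : z * z = 1 := by
  obtain ⟨e₁, f₁, e₂, f₂, h, h1, h2, h3, h4, h5⟩ := hz
  obtain ⟨p1, p2, p3, p4, p5, p6, p7, p8, p9, p10, p11, p12, p13, p14, p15, p16⟩ := h.pols
  apply ext_ap
  intro v
  rw [ap_mul, ap_one, fund_ap h h1 h2 h3 h4 h5 v]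
  simp only [ap_sub, ap_smul, ap_add, h1, h2, h3, h4]
  rw [fund_ap h h1 h2 h3 h4 h5 v]
  module

theorem Four.map {e₁ f₁ e₂ f₂ : V} (h : Four Q e₁ f₁ e₂ f₂) (g : ↥(E Q)) :
    Four Q (ap g e₁) (ap g f₁) (ap g e₂) (ap g f₂) where
  h1 := ⟨by rw [Q_ap, h.h1.left], by rw [Q_ap, h.h1.right], by rw [polar_ap, h.h1.pair]⟩
  h2 := ⟨by rw [Q_ap, h.h2.left], by rw [Q_ap, h.h2.right], by rw [polar_ap, h.h2.pair]⟩
  ee := by rw [polar_ap, h.ee]
  ef := by rw [polar_ap, h.ef]
  fe := by rw [polar_ap, h.fe]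
  ff := by rw [polar_ap, h.ff]

theorem Fund.conj {z : ↥(E Q)} (hz : Fund Q z) (g : ↥(E Q)) : Fund Q (g * z * g⁻¹) := by
  obtain ⟨e₁, f₁, e₂, f₂, h, h1, h2, h3, h4, h5⟩ := hz
  have key : ∀ v, ap (g * z * g⁻¹) (ap g v) = ap g (ap z v) := by
    intro v
    rw [ap_mul, ap_mul, ap_inv_ap]
  refine ⟨_, _, _, _, Four.map h g, ?_, ?_, ?_, ?_, ?_⟩
  · rw [key, h1, ap_neg]
  · rw [key, h2, ap_neg]
  · rw [key, h3, ap_neg]
  · rw [key, h4, ap_neg]
  · intro v k1 k2 k3 k4
    have hv : v = ap g (ap g⁻¹ v) := (ap_ap_inv g v).symm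
    rw [hv, polar_ap] at k1 k2 k3 k4
    rw [hv, key, h5 _ k1 k2 k3 k4]

theorem Fund.ne_one (h2' : (2 : F) ≠ 0) {z : ↥(E Q)} (hz : Fund Q z) : z ≠ 1 := by
  rintro rfl
  obtain ⟨e₁, f₁, e₂, f₂, h, h1, -⟩ := hz
  rw [ap_one] at h1
  have h3 : (2 : F) • e₁ = 0 := by rw [two_smul]; nth_rewrite 2 [h1]; exact add_neg_cancel e₁
  have h4 : e₁ = 0 := (smul_eq_zero.1 h3).resolve_left h2'
  have h5 := h.h1.pair
  rw [h4, polar_zero_left] at h5
  exact zero_ne_one h5

theorem fund_of_four {e₁ f₁ e₂ f₂ : V} (h : Four Q e₁ f₁ e₂ f₂) {A : SpecialLinearGroup (Fin 2) F}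
    (hA : A.1 = -1) : Fund Q (h.rhoE A) := by
  have a00 : A.1 0 0 = -1 := by rw [hA]; simp
  have a01 : A.1 0 1 = 0 := by rw [hA]; simp
  have a10 : A.1 1 0 = 0 := by rw [hA]; simp
  have a11 : A.1 1 1 = -1 := by rw [hA]; simp
  have key : ∀ v, ap (h.rhoE A) v = h.phi A v := fun v => rfl
  obtain ⟨p1, p2, p3, p4, p5, p6, p7, p8, p9, p10, p11, p12, p13, p14, p15, p16⟩ := h.pols
  refine ⟨e₁, f₁, e₂, f₂, h, ?_, ?_, ?_, ?_, ?_⟩
  · rw [key]
    unfold Four.phi
    rw [a00, a01, a10, a11, p1, p6, p10, p12]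
    module
  · rw [key]
    unfold Four.phi
    rw [a00, a01, a10, a11, p2, p5, p14, p16]
    module
  · rw [key]
    unfold Four.phi
    rw [a00, a01, a10, a11, p9, p13, p3, p8]
    module
  · rw [key]
    unfold Four.phi
    rw [a00, a01, a10, a11, p11, p15, p4, p7]
    module
  · intro v k1 k2 k3 k4
    rw [key]
    unfold Four.phi
    rw [k1, k2, k3, k4]
    module

/-! ### The Siegel group -/

/-- the space orthogonal to a pair -/
def Dp (Q : QuadraticForm F V) (e f : V) : Submodule F V where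
  carrier := {v | polar Q e v = 0 ∧ polar Q f v = 0}
  add_mem' {a b} ha hb := by
    change polar Q e (a + b) = 0 ∧ polar Q f (a + b) = 0
    rw [polar_add_right, polar_add_right, ha.1, ha.2, hb.1, hb.2, add_zero]
    exact ⟨rfl, rfl⟩
  zero_mem' := by
    change polar Q e 0 = 0 ∧ polar Q f 0 = 0
    rw [polar_zero_right, polar_zero_right]
    exact ⟨rfl, rfl⟩
  smul_mem' c a ha := by
    change polar Q e (c • a) = 0 ∧ polar Q f (c • a) = 0
    rw [polar_smul_right, polar_smul_right, ha.1, ha.2, smul_zero]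
    exact ⟨rfl, rfl⟩

theorem mem_Dp {e f v : V} : v ∈ Dp Q e f ↔ polar Q e v = 0 ∧ polar Q f v = 0 := Iff.rfl

theorem mem_RS_iff {e f : V} (h : Hyp Q e f) {g : ↥(E Q)} :
    g ∈ RS Q e h.left ↔ ∃ w ∈ Dp Q e f, g = S Q e w := by
  constructor
  · rintro ⟨w, hw, rfl⟩
    have h1 : polar Q e (w - polar Q f w • e) = 0 := by
      rw [polar_sub_right, hw, polar_smul_right, polar_self_of_sing h.left, smul_zero, sub_zero]
    refine ⟨w - polar Q f w • e, ⟨h1, ?_⟩, ?_⟩
    · rw [polar_sub_right, polar_smul_right, polar_comm Q f e, h.pair, smul_eq_mul, mul_one, sub_self]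
    · rw [← S_eq h.left hw]
      have h2 : w = (w - polar Q f w • e) + polar Q f w • e := by abel
      have h3 : polar Q e (polar Q f w • e) = 0 := by
        rw [polar_smul_right, polar_self_of_sing h.left, smul_zero]
      conv_lhs => rw [h2]
      rw [S_add h.left h1 h3, S_self_smul _ h.left, mul_one]
  · rintro ⟨w, hw, rfl⟩
    rw [S_eq h.left hw.1]
    exact sg_mem_RS _ _

/-- `w ↦ S e w` -/
noncomputable def dHom {e f : V} (h : Hyp Q e f) : Multiplicative (Dp Q e f) →* ↥(E Q) where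
  toFun w := S Q e (w.toAdd : V)
  map_one' := S_zero e
  map_mul' a b := S_add h.left a.toAdd.2.1 b.toAdd.2.1

theorem dHom_apply {e f : V} (h : Hyp Q e f) (w : Dp Q e f) : dHom h (Multiplicative.ofAdd w) = S Q e (w : V) := rfl

theorem S_inj {e f : V} (h : Hyp Q e f) {w w' : V} (hw : w ∈ Dp Q e f) (hw' : w' ∈ Dp Q e f)
    (H : S Q e w = S Q e w') : w = w' := by
  have h1 : ap (S Q e w) f = ap (S Q e w') f := by rw [H]
  rw [S_ap h.left hw.1, S_ap h.left hw'.1, h.pair, polar_comm Q w f, polar_comm Q w' f, hw.2, hw'.2] at h1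
  have h2 : w - w' = (Q w - Q w') • e := by
    have : w - w' = (f + (1 : F) • w - (0 : F) • e - (Q w * 1) • e) - (f + (1 : F) • w' - (0 : F) • e - (Q w' * 1) • e)
        + (Q w - Q w') • e := by module
    rw [this, h1]
    module
  have h3 : polar Q f (w - w') = 0 := by rw [polar_sub_right, hw.2, hw'.2, sub_zero]
  rw [h2, polar_smul_right, polar_comm Q f e, h.pair, smul_eq_mul, mul_one] at h3
  rw [h3, zero_smul] at h2
  exact sub_eq_zero.1 h2

theorem dHom_injective {e f : V} (h : Hyp Q e f) : Function.Injective (dHom h) := by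
  intro a b hab
  exact Multiplicative.toAdd.injective (Subtype.ext (S_inj h a.toAdd.2 b.toAdd.2 hab))

theorem range_dHom {e f : V} (h : Hyp Q e f) : (dHom h).range = RS Q e h.left := by
  ext g
  rw [MonoidHom.mem_range, mem_RS_iff h]
  constructor
  · rintro ⟨w, rfl⟩
    exact ⟨w.toAdd, w.toAdd.2, rfl⟩
  · rintro ⟨w, hw, rfl⟩
    exact ⟨Multiplicative.ofAdd ⟨w, hw⟩, rfl⟩

theorem finrank_Dp [FiniteDimensional F V] {e f : V} (h : Hyp Q e f) :
    Module.finrank F (Dp Q e f) + 2 = Module.finrank F V := by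
  let L : V →ₗ[F] F × F := (polarBilin Q e).prod (polarBilin Q f)
  have hL : ∀ v, L v = (polar Q e v, polar Q f v) := fun v => rfl
  have hker : LinearMap.ker L = Dp Q e f := by
    ext v
    rw [LinearMap.mem_ker, hL, mem_Dp, Prod.mk_eq_zero]
  have hrange : LinearMap.range L = ⊤ := by
    rw [eq_top_iff]
    rintro ⟨a, b⟩ _
    refine ⟨a • f + b • e, ?_⟩
    rw [hL, polar_add_right, polar_add_right, polar_smul_right, polar_smul_right, polar_smul_right, polar_smul_right,
      h.pair, polar_self_of_sing h.left, polar_self_of_sing h.right, polar_comm Q f e, h.pair]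
    simp
  have h1 := LinearMap.finrank_range_add_finrank_ker L
  rw [hker, hrange, finrank_top, Module.finrank_prod, Module.finrank_self] at h1
  omega

/-- **the order of the Siegel group** -/
theorem card_RS [Finite F] [FiniteDimensional F V] {e f : V} (h : Hyp Q e f) :
    Nat.card (RS Q e h.left) = Nat.card F ^ (Module.finrank F V - 2) := by
  rw [← range_dHom h, ← Nat.card_congr (MonoidHom.ofInjective (dHom_injective h)).toEquiv]
  have h1 := finrank_Dp h
  have h2 : Nat.card (Multiplicative (Dp Q e f)) = Nat.card (Dp Q e f) := rfl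
  rw [h2, Module.natCard_eq_pow_finrank (K := F)]
  congr 1
  omega

/-! ### `SL₂` -/

theorem coe_one_sub {A : SpecialLinearGroup (Fin 2) F} {p : ℕ} [Fact p.Prime] [CharP F p] {n : ℕ}
    (hA : A ^ p ^ n = 1) : A.1.trace = 2 := by
  have h1 : (A.1 - 1) ^ p ^ n = 0 := by
    rw [sub_pow_char_pow_of_commute p n (Commute.one_right A.1), one_pow]
    have : A.1 ^ p ^ n = 1 := by
      have := congrArg Subtype.val hA
      simpa using this
    rw [this, sub_self]
  have h2 : IsNilpotent (A.1 - 1) := ⟨_, h1⟩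
  have h3 := (Matrix.isNilpotent_trace_of_isNilpotent h2).eq_zero
  rw [Matrix.trace_sub, Matrix.trace_one, Fintype.card_fin] at h3
  rw [sub_eq_zero.1 h3]
  norm_num

/-- **two unipotent elements of `SL₂` with different fixed points generate `-1`** -/
theorem exists_neg_one [Finite F] (h2 : (2 : F) ≠ 0) {H : Subgroup (SpecialLinearGroup (Fin 2) F)} {a c : F}
    (ha : a ≠ 0) (hc : c ≠ 0) (h1 : u a ∈ H) (h3 : l c ∈ H) : ∃ A ∈ H, A.1 = -1 := by
  cases nonempty_fintype F
  obtain ⟨p, hp⟩ := CharP.exists F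
  have hpp : Fact p.Prime := ⟨CharP.char_is_prime F p⟩
  have hp2 : p ≠ 2 := by
    rintro rfl
    exact h2 (by exact_mod_cast CharP.cast_eq_zero F 2)
  have hupow : ∀ n : ℕ, (u a : SpecialLinearGroup (Fin 2) F) ^ n = u (n * a) := by
    intro n
    induction n with
    | zero => rw [pow_zero, Nat.cast_zero, zero_mul, SLTwoUnipotent.u_zero]
    | succ n ih => rw [pow_succ, ih, ← SLTwoUnipotent.u_add, Nat.cast_succ, add_mul, one_mul]
  have hlpow : ∀ n : ℕ, (l c : SpecialLinearGroup (Fin 2) F) ^ n = l (n * c) := by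
    intro n
    induction n with
    | zero => rw [pow_zero, Nat.cast_zero, zero_mul, SLTwoUnipotent.l_zero]
    | succ n ih => rw [pow_succ, ih, ← SLTwoUnipotent.l_add, Nat.cast_succ, add_mul, one_mul]
  have hsyl : 1 < Nat.card (Sylow p H) := by
    by_contra hcon
    have hcard : Nat.card (Sylow p H) = 1 := by
      have : 0 < Nat.card (Sylow p H) := Nat.card_pos
      omega
    have hsub : Subsingleton (Sylow p H) := (Nat.card_eq_one_iff_unique.1 hcard).1
    obtain ⟨P⟩ : Nonempty (Sylow p H) := Sylow.nonempty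
    have hmem : ∀ x : H, x ^ p = 1 → x ∈ P := by
      intro x hx
      have h4 : IsPGroup p (Subgroup.zpowers x) := by
        apply IsPGroup.iff_card.2
        rw [Nat.card_zpowers]
        exact (Nat.dvd_prime_pow hpp.out).1 (by rw [pow_one]; exact orderOf_dvd_of_pow_eq_one hx) |>.imp fun k hk => hk.2
      obtain ⟨P', hP'⟩ := h4.exists_le_sylow
      rw [Subsingleton.elim P P']
      exact hP' (Subgroup.mem_zpowers x)
    have hu : (⟨u a, h1⟩ : H) ∈ P := hmem _ (Subtype.ext (by
      change (u a : SpecialLinearGroup (Fin 2) F) ^ p = 1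
      rw [hupow, CharP.cast_eq_zero, zero_mul, SLTwoUnipotent.u_zero]))
    have hl : (⟨l c, h3⟩ : H) ∈ P := hmem _ (Subtype.ext (by
      change (l c : SpecialLinearGroup (Fin 2) F) ^ p = 1
      rw [hlpow, CharP.cast_eq_zero, zero_mul, SLTwoUnipotent.l_zero]))
    have hul := P.mul_mem hu hl
    obtain ⟨n, hn⟩ := P.isPGroup' ⟨_, hul⟩
    have h5 : (u a * l c : SpecialLinearGroup (Fin 2) F) ^ p ^ n = 1 := by
      have := congrArg (fun x => ((x : P) : H)) hn
      have := congrArg Subtype.val this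
      simpa using this
    have h6 := coe_one_sub h5
    have h7 : (u a * l c : SpecialLinearGroup (Fin 2) F).1.trace = 2 + a * c := by
      rw [SLTwoUnipotent.coe_mul, coe_u, coe_l, Matrix.trace_fin_two]
      simp [Matrix.mul_apply, Fin.sum_univ_two]
      ring
    rw [h7] at h6
    exact mul_ne_zero ha hc (by linear_combination h6)
  obtain ⟨K, hK, ⟨φ⟩⟩ := DicksonWeak.exists_subgroup_equiv p hp2 H hsyl
  -- the central involution of `SL₂(p)`
  let j : SpecialLinearGroup (Fin 2) (ZMod p) := ⟨-1, by simp [Matrix.det_neg]⟩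
  have hj2 : j * j = 1 := Subtype.ext (by change (-1 : Matrix (Fin 2) (Fin 2) (ZMod p)) * -1 = 1; simp)
  have hj1 : j ≠ 1 := by
    intro h4
    have h5 := congrArg (fun x : SpecialLinearGroup (Fin 2) (ZMod p) => x.1 0 0) h4
    have h6 : (-1 : ZMod p) = 1 := by simpa [j] using h5
    have h7 : (2 : ZMod p) = 0 := by linear_combination -h6
    have h8 : (p : ℕ) ∣ 2 := (ZMod.natCast_eq_zero_iff 2 p).1 (by exact_mod_cast h7)
    exact hp2 ((Nat.prime_dvd_prime_iff_eq hpp.out Nat.prime_two).1 h8)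
  set k := (φ.symm j : K) with hk
  have hk2 : (k : SpecialLinearGroup (Fin 2) F) * k = 1 := by
    have : k * k = 1 := by rw [hk, ← map_mul, hj2, map_one]
    exact congrArg Subtype.val this
  have hk1 : (k : SpecialLinearGroup (Fin 2) F) ≠ 1 := by
    intro h4
    apply hj1
    have h5 : k = 1 := Subtype.ext h4
    rw [hk, map_eq_one_iff _ φ.symm.injective] at h5
    exact h5
  refine ⟨k, hK k.2, ?_⟩
  -- Cayley–Hamilton
  set M := (k : SpecialLinearGroup (Fin 2) F).1 with hM
  have hMM : M * M = 1 := congrArg Subtype.val hk2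
  have hdet : M 0 0 * M 1 1 - M 0 1 * M 1 0 = 1 := by
    have := (k : SpecialLinearGroup (Fin 2) F).2
    rwa [Matrix.det_fin_two] at this
  have e00 : M 0 0 * M 0 0 + M 0 1 * M 1 0 = 1 := by
    have := congrFun (congrFun hMM 0) 0
    simpa [Matrix.mul_apply, Fin.sum_univ_two] using this
  have e01 : M 0 0 * M 0 1 + M 0 1 * M 1 1 = 0 := by
    have := congrFun (congrFun hMM 0) 1
    simpa [Matrix.mul_apply, Fin.sum_univ_two] using this
  have e10 : M 1 0 * M 0 0 + M 1 1 * M 1 0 = 0 := by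
    have := congrFun (congrFun hMM 1) 0
    simpa [Matrix.mul_apply, Fin.sum_univ_two] using this
  have e11 : M 1 0 * M 0 1 + M 1 1 * M 1 1 = 1 := by
    have := congrFun (congrFun hMM 1) 1
    simpa [Matrix.mul_apply, Fin.sum_univ_two] using this
  have t0 : M 0 0 * (M 0 0 + M 1 1) = 2 := by linear_combination e00 + hdet
  have t1 : M 1 1 * (M 0 0 + M 1 1) = 2 := by linear_combination e11 + hdet
  have ht : M 0 0 + M 1 1 ≠ 0 := by
    intro h0
    rw [h0, mul_zero] at t0
    exact h2 t0.symm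
  have m01 : M 0 1 = 0 := (mul_eq_zero.1 (show M 0 1 * (M 0 0 + M 1 1) = 0 by linear_combination e01)).resolve_right ht
  have m10 : M 1 0 = 0 := (mul_eq_zero.1 (show M 1 0 * (M 0 0 + M 1 1) = 0 by linear_combination e10)).resolve_right ht
  have m0011 : M 0 0 = M 1 1 := mul_right_cancel₀ ht (t0.trans t1.symm)
  rw [m01, zero_mul, add_zero] at e00
  have m00 : M 0 0 = -1 := by
    rcases mul_self_eq_one_iff.1 e00 with h5 | h5
    · exfalso
      apply hk1
      apply Subtype.ext
      change M = 1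
      ext i j
      fin_cases i <;> fin_cases j
      · simpa using h5
      · simpa using m01
      · simpa using m10
      · simpa using (m0011 ▸ h5)
    · exact h5
  ext i j
  fin_cases i <;> fin_cases j
  · simpa using m00
  · simpa using m01
  · simpa using m10
  · simpa using (m0011 ▸ m00)

end Cfsg.Agent.H989.Fx
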