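import Mathlib
import Cfsg.Agent.H989.Fx.OmE
import Cfsg.Agent.LieClassical.OrthCount
import Cfsg.Agent.LieClassical.QuadCount
import Cfsg.Agent.ClassicalGeometry.WittQuad
import Cfsg.Agent.H75.WittE

/-!
# S5719: types and orders of orthogonal groups, coordinate free (helper989)

* `Ty Q n ε` : `Q` is nondegenerate of dimension `n` and type `ε` (`0` if `n` is odd, `1` or `-1` if `n` is even);
* `exists_ty` : every nondegenerate form has a type;
* `Osum Q U W` : `V = U ⊥ W`; `card_stab`, `card_fix` : stabilisers in `O Q`;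
* `Ty.card_odd`, `Ty.card_even` : the order of `O Q`.
-/

set_option autoImplicit false
set_option maxHeartbeats 400000
set_option linter.unusedSimpArgs false
set_option linter.unusedVariables false
set_option linter.unusedSectionVars false

namespace Cfsg.Agent.H989.Fx

open QuadraticMap Cfsg.Agent.LieClassical Cfsg.Agent.LieClassical.OrthCore Cfsg.Agent.LieClassical.OrthTrans
open Cfsg.Agent.LieClassical.OrthCount (OG OGcongr hypSum hypSum_apply polar_hypSum card_OG_hypSum)
open Cfsg.Agent.H75.OrthIdx (nondegenerate_of_nondeg)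

variable {F V : Type*} [Field F] [AddCommGroup V] [Module F V] {Q : QuadraticForm F V}

/-! ### Restriction, congruence -/

/-- the restricted form -/
abbrev rU (Q : QuadraticForm F V) (U : Submodule F V) : QuadraticForm F U := Q.comp U.subtype

theorem rU_apply {U : Submodule F V} (u : U) : rU Q U u = Q (u : V) := rfl

theorem polar_rU {U : Submodule F V} (u v : U) : polar (rU Q U) u v = polar Q (u : V) v := by
  simp only [polar, rU_apply, Submodule.coe_add]

/-- the number of singular vectors -/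
noncomputable def zn (Q : QuadraticForm F V) : ℕ := Nat.card {v : V // Q v = 0}

section congr

variable {W : Type*} [AddCommGroup W] [Module F W] {Q' : QuadraticForm F W}

theorem zn_congr (e : W ≃ₗ[F] V) (he : ∀ w, Q (e w) = Q' w) : zn Q = zn Q' := by
  refine Nat.card_congr ?_
  refine (Equiv.subtypeEquiv e.toEquiv fun w => ?_).symm
  change Q' w = 0 ↔ Q (e w) = 0
  rw [he]

theorem card_O_eq_OG : Nat.card ↥(O Q) = Nat.card ↥(OG Q) := by
  refine Nat.card_congr (Equiv.subtypeEquivRight fun g => ?_)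
  exact Iff.rfl

theorem card_O_congr (e : W ≃ₗ[F] V) (he : ∀ w, Q (e w) = Q' w) : Nat.card ↥(O Q) = Nat.card ↥(O Q') := by
  rw [card_O_eq_OG, card_O_eq_OG]
  exact (Nat.card_congr (OGcongr e he).toEquiv).symm

theorem nondeg_congr (e : W ≃ₗ[F] V) (he : ∀ w, Q (e w) = Q' w) (hQ : Nondeg Q) : Nondeg Q' := by
  intro x hx
  have h1 : ∀ a b, polar Q (e a) (e b) = polar Q' a b := by
    intro a b
    simp only [polar, ← map_add, he]
  have h2 : e x = 0 := by
    apply hQ
    intro y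
    obtain ⟨y, rfl⟩ := e.surjective y
    rw [h1, hx]
  exact (LinearEquiv.map_eq_zero_iff e).1 h2

end congr

/-! ### Splitting a hyperbolic pair -/

theorem polar_dec {e f : V} (h : Hyp Q e f) (a b : F) {w : V} (hw : w ∈ Dp Q e f) :
    Q (w + (a • e + b • f)) = Q w + a * b := by
  have h1 : polar Q w e = 0 := by rw [polar_comm]; exact hw.1
  have h2 : polar Q w f = 0 := by rw [polar_comm]; exact hw.2
  rw [Q_add, Q_add, QuadraticMap.map_smul, QuadraticMap.map_smul]
  simp only [polar_add_right, polar_smul_right, polar_smul_left, h1, h2, h.left, h.right, h.pair, smul_eq_mul]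
  ring

/-- `V = Dp ⊥ ⟨e, f⟩` -/
noncomputable def dec {e f : V} (h : Hyp Q e f) : (Dp Q e f × F × F) ≃ₗ[F] V where
  toFun x := (x.1 : V) + (x.2.1 • e + x.2.2 • f)
  map_add' x y := by
    simp only [Prod.fst_add, Prod.snd_add, Submodule.coe_add]
    module
  map_smul' c x := by
    simp only [Prod.smul_fst, Prod.smul_snd, Submodule.coe_smul, smul_eq_mul, RingHom.id_apply]
    module
  invFun v := (⟨v - (polar Q f v • e + polar Q e v • f), by
    constructor
    · rw [polar_sub_right, polar_add_right, polar_smul_right, polar_smul_right, polar_self_of_sing h.left, h.pair]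
      simp
    · rw [polar_sub_right, polar_add_right, polar_smul_right, polar_smul_right, polar_self_of_sing h.right,
        polar_comm Q f e, h.pair]
      simp⟩, polar Q f v, polar Q e v)
  left_inv x := by
    obtain ⟨⟨w, hw⟩, a, b⟩ := x
    have h1 : polar Q f (w + (a • e + b • f)) = a := by
      rw [polar_add_right, hw.2, polar_add_right, polar_smul_right, polar_smul_right, polar_self_of_sing h.right,
        polar_comm Q f e, h.pair]
      simp
    have h2 : polar Q e (w + (a • e + b • f)) = b := by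
      rw [polar_add_right, hw.1, polar_add_right, polar_smul_right, polar_smul_right, polar_self_of_sing h.left,
        h.pair]
      simp
    refine Prod.ext (Subtype.ext ?_) (Prod.ext h1 h2)
    change w + (a • e + b • f) - (polar Q f (w + (a • e + b • f)) • e + polar Q e (w + (a • e + b • f)) • f) = w
    rw [h1, h2]
    abel
  right_inv v := by
    change v - (polar Q f v • e + polar Q e v • f) + (polar Q f v • e + polar Q e v • f) = v
    abel

theorem dec_apply {e f : V} (h : Hyp Q e f) (x : Dp Q e f × F × F) :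
    Q (dec h x) = hypSum (rU Q (Dp Q e f)) x := by
  rw [hypSum_apply]
  exact polar_dec h _ _ x.1.2

theorem nondeg_Dp {e f : V} (h : Hyp Q e f) (hQ : Nondeg Q) : Nondeg (rU Q (Dp Q e f)) := by
  intro x hx
  apply Subtype.ext
  apply hQ
  intro y
  obtain ⟨⟨w, a, b⟩, rfl⟩ := (dec h).surjective y
  change polar Q (x : V) ((w : V) + (a • e + b • f)) = 0
  have h1 : polar Q (x : V) e = 0 := by rw [polar_comm]; exact x.2.1
  have h2 : polar Q (x : V) f = 0 := by rw [polar_comm]; exact x.2.2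
  rw [polar_add_right, polar_add_right, polar_smul_right, polar_smul_right, h1, h2, ← polar_rU, hx]
  simp

theorem zn_hypSum {W : Type*} [AddCommGroup W] [Module F W] [Finite F] [Finite W] (R : QuadraticForm F W) :
    (zn (hypSum R) : ℤ) = Nat.card W * ((Nat.card F : ℤ) - 1) + Nat.card F * zn R := by
  cases nonempty_fintype F
  cases nonempty_fintype W
  classical
  have h1 := QuadCount.card_sum (F := F) 1 (fun w : W => R w)
  have h2 : Nat.card {p : (Fin 1 ⊕ Fin 1 → F) × W // Cfsg.quadFormPlus 1 F p.1 + R p.2 = 0} = zn (hypSum R) := by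
    refine Nat.card_congr (Equiv.subtypeEquiv ?_ ?_)
    · exact (Equiv.prodComm _ _).trans (Equiv.prodCongr (Equiv.refl W)
        ((Equiv.sumArrowEquivProdArrow _ _ _).trans (Equiv.prodCongr (Equiv.funUnique _ _) (Equiv.funUnique _ _))))
    · rintro ⟨p, w⟩
      rw [hypSum_apply]
      change (∑ i : Fin 1, p (Sum.inl i) * p (Sum.inr i)) + R w = 0 ↔ R w + p (Sum.inl 0) * p (Sum.inr 0) = 0
      rw [Fin.sum_univ_one, add_comm]
  rw [h2] at h1
  have h3 : Nat.card {w : W // R w = 0} = zn R := rfl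
  rw [h3] at h1
  have hq : 0 < Fintype.card F := Fintype.card_pos
  rw [Nat.card_eq_fintype_card (α := F), Nat.card_eq_fintype_card (α := W)]
  have h4 : (Fintype.card F : ℤ) * (zn (hypSum R) : ℤ) + Fintype.card W * Fintype.card F ^ 1 =
      Fintype.card W * Fintype.card F ^ (2 * 1) + zn R * Fintype.card F ^ (1 + 1) := by exact_mod_cast h1
  have hq' : (Fintype.card F : ℤ) ≠ 0 := by exact_mod_cast hq.ne'
  apply mul_left_cancel₀ hq'
  linear_combination h4

theorem card_Dp [Finite F] [FiniteDimensional F V] {e f : V} (h : Hyp Q e f) {n : ℕ}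
    (hn : Module.finrank F V = n + 2) : Nat.card (Dp Q e f) = Nat.card F ^ n := by
  have h1 := finrank_Dp h
  rw [Module.natCard_eq_pow_finrank (K := F)]
  congr 1
  omega

theorem zn_step [Finite F] [FiniteDimensional F V] {e f : V} (h : Hyp Q e f) {n : ℕ}
    (hn : Module.finrank F V = n + 2) :
    (zn Q : ℤ) = Nat.card F ^ n * ((Nat.card F : ℤ) - 1) + Nat.card F * zn (rU Q (Dp Q e f)) := by
  have hfin : Finite V := Module.finite_of_finite F
  rw [zn_congr (dec h) (dec_apply h), zn_hypSum, card_Dp h hn]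
  push_cast
  rfl

/-- **the order recursion** -/
theorem card_O_step [Finite F] [FiniteDimensional F V] (hQ : Nondeg Q) {e f : V} (h : Hyp Q e f) {n : ℕ}
    (hn : Module.finrank F V = n + 2) :
    Nat.card ↥(O Q) = (zn Q - 1) * Nat.card F ^ n * Nat.card ↥(O (rU Q (Dp Q e f))) := by
  have hfin : Finite V := Module.finite_of_finite F
  rw [card_O_congr (dec h) (dec_apply h), card_O_eq_OG, card_OG_hypSum, card_Dp h hn, ← card_O_eq_OG,
    zn_congr (dec h) (dec_apply h)]
  · rfl
  · intro u hu hu0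
    by_contra hcon
    push Not at hcon
    exact hu0 (nondeg_congr (dec h) (dec_apply h) hQ u hcon)

/-! ### Types -/

/-- nondegenerate of dimension `n` and type `ε` -/
structure Ty (Q : QuadraticForm F V) (n : ℕ) (ε : ℤ) : Prop where
  nd : Nondeg Q
  dim : Module.finrank F V = n
  par : (Odd n ∧ ε = 0) ∨ (Even n ∧ (ε = 1 ∨ ε = -1))
  cnt : (Nat.card F : ℤ) * zn Q = Nat.card F ^ n + ε * ((Nat.card F : ℤ) - 1) * Nat.card F ^ (n / 2)

theorem Ty.congr {W : Type*} [AddCommGroup W] [Module F W] {Q' : QuadraticForm F W} {n : ℕ} {ε : ℤ}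
    (hT : Ty Q n ε) (e : W ≃ₗ[F] V) (he : ∀ w, Q (e w) = Q' w) : Ty Q' n ε :=
  ⟨nondeg_congr e he hT.nd, by rw [LinearEquiv.finrank_eq e, hT.dim], hT.par, by
    rw [← zn_congr e he]; exact hT.cnt⟩

theorem one_lt_q (F : Type*) [Field F] [Finite F] : (1 : ℤ) < Nat.card F := by
  exact_mod_cast Finite.one_lt_card

theorem Ty.unique [Finite F] {n : ℕ} {ε ε' : ℤ} (h : Ty Q n ε) (h' : Ty Q n ε') : ε = ε' := by
  have h1 := one_lt_q F
  have h2 := h.cnt.symm.trans h'.cnt
  have h3 : ((Nat.card F : ℤ) - 1) * Nat.card F ^ (n / 2) ≠ 0 :=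
    mul_ne_zero (by omega) (pow_ne_zero _ (by omega))
  apply mul_right_cancel₀ h3
  linear_combination h2

theorem Ty.dp [Finite F] [FiniteDimensional F V] {n : ℕ} {ε : ℤ} (hT : Ty Q (n + 2) ε) {e f : V}
    (h : Hyp Q e f) : Ty (rU Q (Dp Q e f)) n ε := by
  have h1 := one_lt_q F
  refine ⟨nondeg_Dp h hT.nd, ?_, ?_, ?_⟩
  · have := finrank_Dp h
    rw [hT.dim] at this
    omega
  · rcases hT.par with ⟨h2, h3⟩ | ⟨h2, h3⟩
    · exact Or.inl ⟨by rw [Nat.odd_iff] at h2 ⊢; omega, h3⟩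
    · exact Or.inr ⟨by rw [Nat.even_iff] at h2 ⊢; omega, h3⟩
  · have h4 := zn_step h hT.dim
    have h5 := hT.cnt
    have h6 : (n + 2) / 2 = n / 2 + 1 := by omega
    rw [h6, h4] at h5
    have h7 : (Nat.card F : ℤ) ≠ 0 := by omega
    apply mul_left_cancel₀ h7
    linear_combination h5

theorem Ty.of_dp [Finite F] [FiniteDimensional F V] (hQ : Nondeg Q) {n : ℕ} {ε : ℤ} {e f : V}
    (h : Hyp Q e f) (hn : Module.finrank F V = n + 2) (hT : Ty (rU Q (Dp Q e f)) n ε) : Ty Q (n + 2) ε := by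
  refine ⟨hQ, hn, ?_, ?_⟩
  · rcases hT.par with ⟨h2, h3⟩ | ⟨h2, h3⟩
    · exact Or.inl ⟨by rw [Nat.odd_iff] at h2 ⊢; omega, h3⟩
    · exact Or.inr ⟨by rw [Nat.even_iff] at h2 ⊢; omega, h3⟩
  · have h4 := zn_step h hn
    have h5 := hT.cnt
    have h6 : (n + 2) / 2 = n / 2 + 1 := by omega
    rw [h6, h4]
    linear_combination (Nat.card F : ℤ) * h5

theorem zn_of_aniso (h : ∀ v, Q v = 0 → v = 0) : zn Q = 1 := by
  rw [zn, Nat.card_eq_one_iff_unique]
  exact ⟨⟨fun a b => Subtype.ext ((h _ a.2).trans (h _ b.2).symm)⟩, ⟨⟨0, QuadraticMap.map_zero Q⟩⟩⟩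

/-- **every nondegenerate form has a type** -/
theorem exists_ty [Finite F] (h2 : (2 : F) ≠ 0) (n : ℕ) : ∀ (V : Type*) [AddCommGroup V] [Module F V]
    [FiniteDimensional F V] (Q : QuadraticForm F V), Nondeg Q → Module.finrank F V = n → ∃ ε, Ty Q n ε := by
  induction n using Nat.strong_induction_on with
  | _ n IH =>
  intro V _ _ _ Q hQ hn
  by_cases hs : ∃ e : V, e ≠ 0 ∧ Q e = 0
  · obtain ⟨e, he0, he⟩ := hs
    obtain ⟨f, h⟩ := OrthTrans.exists_hyp hQ he he0
    have h1 := finrank_Dp h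
    obtain ⟨m, rfl⟩ : ∃ m, n = m + 2 := ⟨Module.finrank F (Dp Q e f), by omega⟩
    obtain ⟨ε, hε⟩ := IH m (by omega) _ (rU Q (Dp Q e f)) (nondeg_Dp h hQ) (by omega)
    exact ⟨ε, Ty.of_dp hQ h hn hε⟩
  · push Not at hs
    have hz : zn Q = 1 := zn_of_aniso fun v hv => by
      by_contra h3
      exact hs v h3 hv
    have hn2 : n ≤ 2 := by
      by_contra hcon
      obtain ⟨s, -, hs0, hs1⟩ := OrthFinite.exists_sing_mem (Q := Q) (⊤ : Submodule F V) (by rw [finrank_top]; omega)
      exact hs s hs0 hs1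
    interval_cases n
    · exact ⟨1, hQ, hn, Or.inr ⟨by decide, Or.inl rfl⟩, by rw [hz]; norm_num⟩
    · exact ⟨0, hQ, hn, Or.inl ⟨by decide, rfl⟩, by rw [hz]; norm_num⟩
    · exact ⟨-1, hQ, hn, Or.inr ⟨by decide, Or.inr rfl⟩, by rw [hz]; norm_num; ring⟩

/-! ### Orthogonal sums -/

section sum

variable {U W : Submodule F V}

/-- `V = U ⊥ W` -/
structure Osum (Q : QuadraticForm F V) (U W : Submodule F V) : Prop where
  compl : IsCompl U W
  orth : ∀ u ∈ U, ∀ w ∈ W, polar Q u w = 0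

theorem Osum.symm (h : Osum Q U W) : Osum Q W U :=
  ⟨h.compl.symm, fun w hw u hu => by rw [polar_comm]; exact h.orth u hu w hw⟩

theorem Osum.exists_dec (h : Osum Q U W) (v : V) : ∃ u ∈ U, ∃ w ∈ W, v = u + w := by
  have h1 : v ∈ U ⊔ W := by rw [h.compl.sup_eq_top]; exact Submodule.mem_top
  obtain ⟨a, ha, b, hb, rfl⟩ := Submodule.mem_sup.1 h1
  exact ⟨a, ha, b, hb, rfl⟩

theorem Osum.Q_add (h : Osum Q U W) {u w : V} (hu : u ∈ U) (hw : w ∈ W) : Q (u + w) = Q u + Q w := by
  rw [OrthCore.Q_add, h.orth u hu w hw, add_zero]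

theorem Osum.nondeg_left (h : Osum Q U W) (hQ : Nondeg Q) : Nondeg (rU Q U) := by
  intro x hx
  apply Subtype.ext
  apply hQ
  intro y
  obtain ⟨u, hu, w, hw, rfl⟩ := h.exists_dec y
  rw [polar_add_right, h.orth _ x.2 w hw, add_zero]
  exact (polar_rU x ⟨u, hu⟩).symm.trans (hx ⟨u, hu⟩)

theorem Osum.mem_left (h : Osum Q U W) (hQ : Nondeg Q) {x : V} (hx : ∀ w ∈ W, polar Q x w = 0) : x ∈ U := by
  obtain ⟨u, hu, w, hw, rfl⟩ := h.exists_dec x
  have h1 : (⟨w, hw⟩ : W) = 0 := by
    apply h.symm.nondeg_left hQ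
    intro y
    rw [polar_rU]
    have := hx y y.2
    rwa [polar_add_left, h.orth u hu y y.2, zero_add] at this
  have h2 : w = 0 := congrArg Subtype.val h1
  rw [h2, add_zero]
  exact hu

theorem Osum.finrank [FiniteDimensional F V] (h : Osum Q U W) :
    Module.finrank F U + Module.finrank F W = Module.finrank F V :=
  Submodule.finrank_add_eq_of_isCompl h.compl

/-- the sum of two maps -/
noncomputable def sumL (h : Osum Q U W) (a : U ≃ₗ[F] U) (b : W ≃ₗ[F] W) : V ≃ₗ[F] V :=
  (Submodule.prodEquivOfIsCompl U W h.compl).symm.trans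
    ((a.prodCongr b).trans (Submodule.prodEquivOfIsCompl U W h.compl))

theorem sumL_apply (h : Osum Q U W) (a : U ≃ₗ[F] U) (b : W ≃ₗ[F] W) (u : U) (w : W) :
    sumL h a b ((u : V) + w) = (a u : V) + b w := by
  have h1 : (Submodule.prodEquivOfIsCompl U W h.compl).symm ((u : V) + w) = (u, w) := by
    rw [LinearEquiv.symm_apply_eq]
    rfl
  change (Submodule.prodEquivOfIsCompl U W h.compl) ((a.prodCongr b)
    ((Submodule.prodEquivOfIsCompl U W h.compl).symm ((u : V) + w))) = _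
  rw [h1]
  rfl

theorem sumL_left (h : Osum Q U W) (a : U ≃ₗ[F] U) (b : W ≃ₗ[F] W) (u : U) : sumL h a b (u : V) = (a u : V) := by
  have := sumL_apply h a b u 0
  rwa [map_zero, Submodule.coe_zero, add_zero, add_zero] at this

theorem sumL_right (h : Osum Q U W) (a : U ≃ₗ[F] U) (b : W ≃ₗ[F] W) (w : W) : sumL h a b (w : V) = (b w : V) := by
  have := sumL_apply h a b 0 w
  rwa [map_zero, Submodule.coe_zero, zero_add, zero_add] at this

theorem sumL_mem (h : Osum Q U W) {a : U ≃ₗ[F] U} {b : W ≃ₗ[F] W} (ha : a ∈ O (rU Q U)) (hb : b ∈ O (rU Q W)) :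
    sumL h a b ∈ O Q := by
  intro v
  obtain ⟨u, hu, w, hw, rfl⟩ := h.exists_dec v
  rw [sumL_apply h a b ⟨u, hu⟩ ⟨w, hw⟩, h.Q_add (a _).2 (b _).2, h.Q_add hu hw]
  have h1 : Q ((a ⟨u, hu⟩ : U) : V) = Q u := ha ⟨u, hu⟩
  have h2 : Q ((b ⟨w, hw⟩ : W) : V) = Q w := hb ⟨w, hw⟩
  rw [h1, h2]

/-- restriction -/
theorem exists_restrict [FiniteDimensional F V] {g : V ≃ₗ[F] V} (hg : g ∈ O Q) (hU : ∀ u ∈ U, g u ∈ U) :
    ∃ a ∈ O (rU Q U), ∀ u : U, ((a u : U) : V) = g u := by
  let f : U →ₗ[F] U := (g : V →ₗ[F] V).restrict hU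
  have hf : Function.Injective f := by
    intro x y hxy
    apply Subtype.ext
    apply g.injective
    exact congrArg Subtype.val hxy
  refine ⟨LinearEquiv.ofInjectiveEndo f hf, ?_, fun u => rfl⟩
  intro u
  exact hg (u : V)

/-- **the stabiliser of an orthogonal decomposition** -/
theorem card_stab [FiniteDimensional F V] (h : Osum Q U W) :
    Nat.card {g : ↥(O Q) // (∀ u ∈ U, (g : V ≃ₗ[F] V) u ∈ U) ∧ ∀ w ∈ W, (g : V ≃ₗ[F] V) w ∈ W} =
      Nat.card ↥(O (rU Q U)) * Nat.card ↥(O (rU Q W)) := by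
  rw [← Nat.card_prod]
  refine (Nat.card_congr (Equiv.ofBijective (fun x : ↥(O (rU Q U)) × ↥(O (rU Q W)) =>
    (⟨⟨sumL h x.1.1 x.2.1, sumL_mem h x.1.2 x.2.2⟩, ?_, ?_⟩ :
    {g : ↥(O Q) // (∀ u ∈ U, (g : V ≃ₗ[F] V) u ∈ U) ∧ ∀ w ∈ W, (g : V ≃ₗ[F] V) w ∈ W})) ⟨?_, ?_⟩)).symm
  · intro u hu
    change sumL h x.1.1 x.2.1 u ∈ U
    rw [sumL_left h _ _ ⟨u, hu⟩]
    exact Subtype.coe_prop _
  · intro w hw
    change sumL h x.1.1 x.2.1 w ∈ W
    rw [sumL_right h _ _ ⟨w, hw⟩]
    exact Subtype.coe_prop _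
  · intro x y hxy
    have h1 : sumL h x.1.1 x.2.1 = sumL h y.1.1 y.2.1 := congrArg (fun g => g.1.1) hxy
    refine Prod.ext (Subtype.ext (LinearEquiv.ext fun u => Subtype.ext ?_))
      (Subtype.ext (LinearEquiv.ext fun w => Subtype.ext ?_))
    · rw [← sumL_left h x.1.1 x.2.1, h1, sumL_left]
    · rw [← sumL_right h x.1.1 x.2.1, h1, sumL_right]
  · rintro ⟨⟨g, hg⟩, hU, hW⟩
    obtain ⟨a, ha, ha'⟩ := exists_restrict hg hU
    obtain ⟨b, hb, hb'⟩ := exists_restrict hg hW
    refine ⟨⟨⟨a, ha⟩, ⟨b, hb⟩⟩, Subtype.ext (Subtype.ext (LinearEquiv.ext fun v => ?_))⟩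
    change sumL h a b v = g v
    obtain ⟨u, hu, w, hw, rfl⟩ := h.exists_dec v
    rw [sumL_apply h a b ⟨u, hu⟩ ⟨w, hw⟩, ha', hb', map_add]

/-- **the pointwise stabiliser of a summand** -/
theorem card_fix [FiniteDimensional F V] (hQ : Nondeg Q) (h : Osum Q U W) :
    Nat.card {g : ↥(O Q) // ∀ w ∈ W, (g : V ≃ₗ[F] V) w = w} = Nat.card ↥(O (rU Q U)) := by
  refine (Nat.card_congr (Equiv.ofBijective (fun x : ↥(O (rU Q U)) =>
    (⟨⟨sumL h x.1 1, sumL_mem h x.2 (O _).one_mem⟩, ?_⟩ :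
    {g : ↥(O Q) // ∀ w ∈ W, (g : V ≃ₗ[F] V) w = w})) ⟨?_, ?_⟩)).symm
  · intro w hw
    change sumL h x.1 1 w = w
    rw [sumL_right h _ _ ⟨w, hw⟩]
    rfl
  · intro x y hxy
    have h1 : sumL h x.1 1 = sumL h y.1 1 := congrArg (fun g => g.1.1) hxy
    refine Subtype.ext (LinearEquiv.ext fun u => Subtype.ext ?_)
    rw [← sumL_left h x.1 1, h1, sumL_left]
  · rintro ⟨⟨g, hg⟩, hW⟩
    have hU : ∀ u ∈ U, g u ∈ U := by
      intro u hu
      apply h.mem_left hQ
      intro w hw
      rw [← hW w hw, polar_map hg]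
      exact h.orth u hu w hw
    obtain ⟨a, ha, ha'⟩ := exists_restrict hg hU
    refine ⟨⟨a, ha⟩, Subtype.ext (Subtype.ext (LinearEquiv.ext fun v => ?_))⟩
    change sumL h a 1 v = g v
    obtain ⟨u, hu, w, hw, rfl⟩ := h.exists_dec v
    rw [sumL_apply h a 1 ⟨u, hu⟩ ⟨w, hw⟩, ha', map_add]
    have : g w = w := hW w hw
    rw [this]
    rfl

end sum

/-! ### Nonsingular vectors -/

/-- `v^⊥` and `⟨v⟩` -/
theorem osum_span {v : V} (h2 : (2 : F) ≠ 0) (hv : Q v ≠ 0) :
    Osum Q (LinearMap.ker (polarBilin Q v)) (Submodule.span F {v}) := by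
  have h3 : polar Q v v ≠ 0 := by rw [polar_self']; exact mul_ne_zero h2 hv
  refine ⟨⟨?_, ?_⟩, ?_⟩
  · rw [Submodule.disjoint_def]
    intro x hx hx'
    obtain ⟨c, rfl⟩ := Submodule.mem_span_singleton.1 hx'
    have h4 : polar Q v (c • v) = 0 := hx
    rw [polar_smul_right, smul_eq_mul] at h4
    rw [(mul_eq_zero.1 h4).resolve_right h3, zero_smul]
  · rw [codisjoint_iff, eq_top_iff]
    intro x _
    rw [Submodule.mem_sup]
    refine ⟨x - (polar Q v x / polar Q v v) • v, ?_, (polar Q v x / polar Q v v) • v,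
      Submodule.smul_mem _ _ (Submodule.mem_span_singleton_self v), by abel⟩
    change polar Q v (x - (polar Q v x / polar Q v v) • v) = 0
    rw [polar_sub_right, polar_smul_right, smul_eq_mul, div_mul_cancel₀ _ h3, sub_self]
  · intro u hu w hw
    obtain ⟨c, rfl⟩ := Submodule.mem_span_singleton.1 hw
    have h4 : polar Q v u = 0 := hu
    rw [polar_smul_right, polar_comm, h4, smul_zero]

/-- **orbit-stabiliser for a nonsingular vector** -/
theorem card_O_vec [FiniteDimensional F V] (hQ : Nondeg Q) (h2 : (2 : F) ≠ 0) {v : V} (hv : Q v ≠ 0) :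
    Nat.card ↥(O Q) = Nat.card {x : V // Q x = Q v} *
      Nat.card ↥(O (rU Q (LinearMap.ker (polarBilin Q v)))) := by
  have hv0 : v ≠ 0 := by
    rintro rfl
    exact hv (QuadraticMap.map_zero Q)
  have h1 := Subgroup.index_mul_card (MulAction.stabilizer ↥(O Q) v)
  rw [← h1, MulAction.index_stabilizer]
  congr 1
  · have h3 : MulAction.orbit ↥(O Q) v = {x | Q x = Q v} := by
      ext x
      constructor
      · rintro ⟨g, rfl⟩
        exact g.2 v
      · intro hx
        have hx' : Q x = Q v := hx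
        have hx0 : x ≠ 0 := by
          rintro rfl
          rw [QuadraticMap.map_zero] at hx'
          exact hv hx'.symm
        obtain ⟨g, hg, hgx⟩ := Cfsg.Agent.ClassicalGeometry.WittQuad.extend_family Q
          (nondegenerate_of_nondeg hQ) 1 (fun _ => v) (fun _ => x)
          (LinearIndependent.of_subsingleton (0 : Fin 1) hv0) (LinearIndependent.of_subsingleton (0 : Fin 1) hx0)
          (fun _ => hx'.symm) (fun _ _ => by
            rw [polarBilin_apply_apply, polarBilin_apply_apply, polar_self', polar_self', hx'])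
        exact ⟨⟨g, hg⟩, hgx 0⟩
    rw [h3]
    rfl
  · rw [← card_fix hQ (osum_span h2 hv)]
    refine Nat.card_congr (Equiv.subtypeEquivRight fun g => ?_)
    rw [MulAction.mem_stabilizer_iff]
    constructor
    · intro hg w hw
      obtain ⟨c, rfl⟩ := Submodule.mem_span_singleton.1 hw
      rw [map_smul]
      congr 1
    · intro hg
      exact hg v (Submodule.mem_span_singleton_self v)

theorem card_O_zero [FiniteDimensional F V] (h : Module.finrank F V = 0) : Nat.card ↥(O Q) = 1 := by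
  have : Subsingleton V := Module.finrank_zero_iff.1 h
  rw [Nat.card_eq_one_iff_unique]
  exact ⟨⟨fun a b => Subtype.ext (LinearEquiv.ext fun v => Subsingleton.elim _ _)⟩, ⟨1⟩⟩

theorem finrank_ker_polar [FiniteDimensional F V] {v : V} (h2 : (2 : F) ≠ 0) (hv : Q v ≠ 0) :
    Module.finrank F (LinearMap.ker (polarBilin Q v)) + 1 = Module.finrank F V := by
  have hv0 : v ≠ 0 := by
    rintro rfl
    exact hv (QuadraticMap.map_zero Q)
  have := (osum_span h2 hv).finrank
  rwa [finrank_span_singleton hv0] at this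

theorem card_O_one [FiniteDimensional F V] (hQ : Nondeg Q) (h2 : (2 : F) ≠ 0) (h : Module.finrank F V = 1) :
    Nat.card ↥(O Q) = 2 := by
  have hnt : Nontrivial V := Module.nontrivial_of_finrank_pos (R := F) (by omega)
  obtain ⟨v, hv0⟩ := exists_ne (0 : V)
  have hsp : ∀ x : V, ∃ c : F, c • v = x := by
    intro x
    exact (finrank_eq_one_iff_of_nonzero' v hv0).1 h x
  have hv : Q v ≠ 0 := by
    intro hv
    apply hv0
    apply hQ
    intro y
    obtain ⟨c, rfl⟩ := hsp y
    rw [polar_smul_right, polar_self_of_sing hv, smul_zero]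
  have h3 := finrank_ker_polar h2 hv
  rw [card_O_vec hQ h2 hv, card_O_zero (by omega), mul_one]
  have h4 : ({x | Q x = Q v} : Set V) = {v, -v} := by
    ext x
    constructor
    · intro hx
      obtain ⟨c, rfl⟩ := hsp x
      have hx' : Q (c • v) = Q v := hx
      rw [QuadraticMap.map_smul, smul_eq_mul] at hx'
      have h5 : c * c = 1 := mul_right_cancel₀ hv (hx'.trans (one_mul _).symm)
      rcases mul_self_eq_one_iff.1 h5 with rfl | rfl
      · left; rw [one_smul]
      · right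
        change (-1 : F) • v = -v
        rw [neg_one_smul]
    · rintro (rfl | rfl)
      · rfl
      · exact QuadraticMap.map_neg Q v
  have h5 : v ≠ -v := by
    intro h5
    apply hv0
    have h6 : (2 : F) • v = 0 := by
      rw [two_smul]
      nth_rewrite 2 [h5]
      exact add_neg_cancel v
    exact (smul_eq_zero.1 h6).resolve_left h2
  change Nat.card ↥({x | Q x = Q v} : Set V) = 2
  rw [h4, Nat.card_coe_set_eq, Set.ncard_pair h5]

/-- **the anisotropic plane** -/
theorem card_O_two_neg [Finite F] [FiniteDimensional F V] (hQ : Nondeg Q) (h2 : (2 : F) ≠ 0)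
    (h : Module.finrank F V = 2) (han : ∀ v, Q v = 0 → v = 0) :
    (Nat.card ↥(O Q) : ℤ) = 2 * ((Nat.card F : ℤ) + 1) := by
  classical
  have hfin : Finite V := Module.finite_of_finite F
  have hnt : Nontrivial V := Module.nontrivial_of_finrank_pos (R := F) (by omega)
  -- every nonzero value is taken
  have hval : ∀ c : F, c ≠ 0 → ∃ v, Q v = c := by
    intro c hc
    obtain ⟨v, hv0⟩ := exists_ne (0 : V)
    have hv : Q v ≠ 0 := fun h => hv0 (han v h)
    have h3 := finrank_ker_polar h2 hv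
    have hnt' : Nontrivial (LinearMap.ker (polarBilin Q v)) :=
      Module.nontrivial_of_finrank_pos (R := F) (by omega)
    obtain ⟨⟨w, hw⟩, hw0⟩ := exists_ne (0 : LinearMap.ker (polarBilin Q v))
    have hw0' : w ≠ 0 := fun h => hw0 (Subtype.ext h)
    have hQw : Q w ≠ 0 := fun h => hw0' (han w h)
    obtain ⟨x, y, hxy⟩ := Cfsg.Agent.H75.OrthIdx.exists_binary (Q v) (Q w) c hv hQw h2
    refine ⟨x • v + y • w, ?_⟩
    have hvw : polar Q v w = 0 := hw
    rw [OrthCore.Q_add, QuadraticMap.map_smul, QuadraticMap.map_smul, polar_smul_left, polar_smul_right, hvw, ← hxy]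
    simp only [smul_eq_mul]
    ring
  have hN : ∀ c : F, c ≠ 0 → Nat.card {x : V // Q x = c} * 2 = Nat.card ↥(O Q) := by
    intro c hc
    obtain ⟨v, rfl⟩ := hval c hc
    have h3 := finrank_ker_polar h2 hc
    have h4 := card_O_one (Q := rU Q (LinearMap.ker (polarBilin Q v))) ((osum_span h2 hc).nondeg_left hQ) h2 (by omega)
    rw [card_O_vec hQ h2 hc, h4]
  cases nonempty_fintype F
  cases nonempty_fintype V
  have hsum : ∑ c : F, Nat.card {x : V // Q x = c} = Nat.card V := by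
    rw [← Nat.card_sigma]
    exact Nat.card_congr (Equiv.sigmaFiberEquiv (fun x : V => Q x))
  have h0 : Nat.card {x : V // Q x = 0} = 1 := zn_of_aniso han
  have hV : Nat.card V = Nat.card F ^ 2 := by rw [Module.natCard_eq_pow_finrank (K := F), h]
  rw [← Finset.add_sum_erase _ _ (Finset.mem_univ (0 : F)), h0, hV] at hsum
  have h5 : (∑ c ∈ Finset.univ.erase (0 : F), Nat.card {x : V // Q x = c}) * 2 =
      (Nat.card F - 1) * Nat.card ↥(O Q) := by
    rw [Finset.sum_mul, Finset.sum_congr rfl fun c hc => hN c (Finset.ne_of_mem_erase hc), Finset.sum_const,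
      Finset.card_erase_of_mem (Finset.mem_univ _), Finset.card_univ, smul_eq_mul, Nat.card_eq_fintype_card (α := F)]
  have hq := one_lt_q F
  have h6 : ((∑ c ∈ Finset.univ.erase (0 : F), Nat.card {x : V // Q x = c} : ℕ) : ℤ) = (Nat.card F : ℤ) ^ 2 - 1 := by
    have : (1 : ℤ) + ((∑ c ∈ Finset.univ.erase (0 : F), Nat.card {x : V // Q x = c} : ℕ) : ℤ) =
        (Nat.card F : ℤ) ^ 2 := by exact_mod_cast hsum
    linear_combination this
  have h7 : ((∑ c ∈ Finset.univ.erase (0 : F), Nat.card {x : V // Q x = c} : ℕ) : ℤ) * 2 =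
      ((Nat.card F : ℤ) - 1) * Nat.card ↥(O Q) := by
    have h8 : ((Nat.card F - 1 : ℕ) : ℤ) = (Nat.card F : ℤ) - 1 := by
      rw [Nat.cast_sub Nat.card_pos, Nat.cast_one]
    rw [← h8]
    exact_mod_cast h5
  rw [h6] at h7
  have h9 : (Nat.card F : ℤ) - 1 ≠ 0 := by omega
  apply mul_left_cancel₀ h9
  linear_combination -h7

/-! ### The orders -/

theorem exists_hyp_of_ty [Finite F] [FiniteDimensional F V] {n : ℕ} {ε : ℤ} (hT : Ty Q (n + 2) ε)
    (h : 1 ≤ n ∨ ε = 1) : ∃ e f, Hyp Q e f := by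
  have hq := one_lt_q F
  have h3 : ∃ s : V, s ≠ 0 ∧ Q s = 0 := by
    rcases Nat.eq_zero_or_pos n with rfl | hn
    · have hε : ε = 1 := h.resolve_left (by omega)
      by_contra hcon
      push Not at hcon
      have hz : zn Q = 1 := zn_of_aniso fun v hv => by
        by_contra h3
        exact hcon v h3 hv
      have h4 := hT.cnt
      rw [hz, hε] at h4
      norm_num at h4
      nlinarith [h4, hq]
    · obtain ⟨s, -, hs0, hs1⟩ := OrthFinite.exists_sing_mem (Q := Q) (⊤ : Submodule F V)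
        (by rw [finrank_top, hT.dim]; omega)
      exact ⟨s, hs0, hs1⟩
  obtain ⟨s, hs0, hs⟩ := h3
  obtain ⟨f, hf⟩ := OrthTrans.exists_hyp hT.nd hs hs0
  exact ⟨s, f, hf⟩

/-- `∏ (q^(2i) - 1)`, `1 ≤ i ≤ m` -/
def PP (q : ℤ) (m : ℕ) : ℤ := ∏ i ∈ Finset.range m, (q ^ (2 * (i + 1)) - 1)

theorem PP_succ (q : ℤ) (m : ℕ) : PP q (m + 1) = PP q m * (q ^ (2 * (m + 1)) - 1) := Finset.prod_range_succ _ _

theorem PP_zero (q : ℤ) : PP q 0 = 1 := rfl

theorem card_O_step' [Finite F] [FiniteDimensional F V] {n : ℕ} {ε : ℤ} (hT : Ty Q (n + 2) ε) {e f : V}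
    (h : Hyp Q e f) : (Nat.card F : ℤ) * Nat.card ↥(O Q) =
      (Nat.card F ^ (n + 2) + ε * ((Nat.card F : ℤ) - 1) * Nat.card F ^ (n / 2 + 1) - Nat.card F) *
        Nat.card F ^ n * Nat.card ↥(O (rU Q (Dp Q e f))) := by
  have hfin : Finite V := Module.finite_of_finite F
  have h1 := card_O_step hT.nd h hT.dim
  have hz : 1 ≤ zn Q := by
    rw [Nat.succ_le_iff, zn]
    have : Nonempty {v : V // Q v = 0} := ⟨⟨0, QuadraticMap.map_zero Q⟩⟩
    exact Nat.card_pos
  have h2 : (Nat.card ↥(O Q) : ℤ) = ((zn Q : ℤ) - 1) * Nat.card F ^ n * Nat.card ↥(O (rU Q (Dp Q e f))) := by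
    rw [h1]
    push_cast [Nat.cast_sub hz]
    ring
  have h3 := hT.cnt
  have h6 : (n + 2) / 2 = n / 2 + 1 := by omega
  rw [h6] at h3
  rw [h2]
  linear_combination (Nat.card F ^ n * Nat.card ↥(O (rU Q (Dp Q e f))) : ℤ) * h3

/-- **the order of an orthogonal group of even dimension** -/
theorem Ty.card_even [Finite F] (h2 : (2 : F) ≠ 0) (m : ℕ) : ∀ {V : Type*} [AddCommGroup V] [Module F V]
    [FiniteDimensional F V] {Q : QuadraticForm F V} {ε : ℤ}, Ty Q (2 * (m + 1)) ε →
    (Nat.card ↥(O Q) : ℤ) = 2 * Nat.card F ^ ((m + 1) * m) * ((Nat.card F : ℤ) ^ (m + 1) - ε) * PP (Nat.card F) m := by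
  have hq := one_lt_q F
  have hq0 : (Nat.card F : ℤ) ≠ 0 := by omega
  induction m with
  | zero =>
    intro V _ _ _ Q ε hT
    rw [PP_zero]
    rcases hT.par with ⟨h3, -⟩ | ⟨-, rfl | rfl⟩
    · exact absurd h3 (by decide)
    · obtain ⟨e, f, hef⟩ := exists_hyp_of_ty (n := 0) hT (Or.inr rfl)
      have h3 := card_O_step' (n := 0) hT hef
      have h4 := finrank_Dp hef
      rw [hT.dim] at h4
      rw [card_O_zero (V := Dp Q e f) (by omega)] at h3
      apply mul_left_cancel₀ hq0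
      rw [h3]
      push_cast
      ring
    · rw [card_O_two_neg hT.nd h2 hT.dim]
      · ring
      · have h3 := hT.cnt
        have h4 : zn Q = 1 := by
          have : (Nat.card F : ℤ) * zn Q = Nat.card F * 1 := by
            rw [h3]
            norm_num
            ring
          exact_mod_cast mul_left_cancel₀ hq0 this
        rw [zn, Nat.card_eq_one_iff_unique] at h4
        obtain ⟨h5, -⟩ := h4
        intro v hv
        exact congrArg Subtype.val (Subsingleton.elim (⟨v, hv⟩ : {v : V // Q v = 0}) ⟨0, QuadraticMap.map_zero Q⟩)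
  | succ m ih =>
    intro V _ _ _ Q ε hT
    obtain ⟨e, f, hef⟩ := exists_hyp_of_ty (n := 2 * (m + 1)) hT (Or.inl (by omega))
    have h3 := card_O_step' (n := 2 * (m + 1)) hT hef
    have h4 := ih (Ty.dp (n := 2 * (m + 1)) hT hef)
    rw [h4, show 2 * (m + 1) / 2 = m + 1 by omega] at h3
    have hε : ε * ε = 1 := by
      rcases hT.par with ⟨h5, -⟩ | ⟨-, rfl | rfl⟩
      · rw [Nat.odd_iff] at h5; omega
      · rfl
      · rfl
    apply mul_left_cancel₀ hq0
    rw [h3, PP_succ]
    generalize PP (Nat.card F) m = P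
    generalize (Nat.card F : ℤ) = q
    have e1 : q ^ ((m + 1 + 1) * (m + 1)) = q ^ ((m + 1) * m) * (q ^ (m + 1) * q ^ (m + 1)) := by ring
    have e2 : q ^ (2 * (m + 1) + 2) = q * q * q ^ (m + 1) * q ^ (m + 1) := by ring
    have e3 : q ^ (m + 1 + 1) = q * q ^ (m + 1) := by ring
    have e4 : q ^ (2 * (m + 1)) = q ^ (m + 1) * q ^ (m + 1) := by ring
    rw [e1, e2, e3, e4]
    generalize q ^ (m + 1) = a
    generalize q ^ ((m + 1) * m) = b
    linear_combination (-(2 * b * P * q * a * a * (q - 1) * a) : ℤ) * hε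

theorem Ty.card_odd [Finite F] (h2 : (2 : F) ≠ 0) (m : ℕ) : ∀ {V : Type*} [AddCommGroup V] [Module F V]
    [FiniteDimensional F V] {Q : QuadraticForm F V} {ε : ℤ}, Ty Q (2 * m + 1) ε →
    (Nat.card ↥(O Q) : ℤ) = 2 * Nat.card F ^ (m ^ 2) * PP (Nat.card F) m := by
  have hq := one_lt_q F
  have hq0 : (Nat.card F : ℤ) ≠ 0 := by omega
  induction m with
  | zero =>
    intro V _ _ _ Q ε hT
    rw [PP_zero, card_O_one hT.nd h2 hT.dim]
    norm_num
  | succ m ih =>
    intro V _ _ _ Q ε hT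
    have hT' : Ty Q (2 * m + 1 + 2) ε := hT
    obtain ⟨e, f, hef⟩ := exists_hyp_of_ty hT' (Or.inl (by omega))
    have h3 := card_O_step' hT' hef
    have h4 := ih (Ty.dp hT' hef)
    have hε : ε = 0 := by
      rcases hT.par with ⟨-, h5⟩ | ⟨h5, -⟩
      · exact h5
      · rw [Nat.even_iff] at h5; omega
    rw [h4, hε] at h3
    apply mul_left_cancel₀ hq0
    rw [h3, PP_succ]
    ring

end Cfsg.Agent.H989.Fx
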