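import Cfsg.Agent.H989.Fx.Cls
import Cfsg.Agent.H989.Fx.OmF
import Cfsg.Agent.H100.IF.Four
import Cfsg.Agent.H59.IF.Core
import Cfsg.Agent.H59.IF.Psl
import Cfsg.Agent.H237.IF.MinFive
import Cfsg.Agent.ClassicalGeometry.OrthAut1

/-!
# S5719, `Ω_9(q)`, `q` odd: a fundamental involution in `A` (helper989)

`nine` : if `A` contains no involution of rank 2 then `A` contains no fundamental involution.
-/

set_option autoImplicit false
set_option linter.unusedSectionVars false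
set_option linter.unusedSimpArgs false
set_option linter.unusedVariables false

namespace Cfsg.Agent.H989.Fx

open QuadraticMap Module Cfsg.Agent.LieClassical Cfsg.Agent.LieClassical.OrthCore Cfsg.Agent.LieClassical.OrthTrans
  Cfsg.Agent.LieClassical.OrthSimple
open Cfsg.Agent.H325.IF (Vm Vp mem_Vm mem_Vp)
open Cfsg.Agent.H989.Gs.Gen
open Cfsg.Agent.UGT.U2.FOne.Orth (Four)
open Cfsg.Agent.H198.IF (Fix Neg mem_Fix mem_Neg xt xt_left xt_right xt_comm orth finrank_Fix neg₂ rho_neg rho_fix)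
open Cfsg.Agent.H112.Row2.OrthExt (QU QU_apply polar_QU)
open Cfsg.Agent.H209.Fxy (IF)
open Matrix (SpecialLinearGroup)

universe u v

variable {F : Type u} {V : Type v} [Field F] [AddCommGroup V] [Module F V] {Q : QuadraticForm F V}

/-- a fundamental involution is the `-1` of a quadruple -/
theorem exists_rho (h2 : (2 : F) ≠ 0) {z : ↥(E Q)} (hz : Fund Q z) :
    ∃ (e₁ f₁ e₂ f₂ : V) (h : Four Q e₁ f₁ e₂ f₂), z = h.rhoE (neg₂ F) := by
  obtain ⟨e₁, f₁, e₂, f₂, h, z1, z2, z3, z4, z5⟩ := hz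
  refine ⟨e₁, f₁, e₂, f₂, h, ?_⟩
  obtain ⟨k1, k2, k3, k4⟩ := rho_neg h
  apply ext_ap
  intro v
  rw [fund_ap h z1 z2 z3 z4 z5 v, fund_ap h k1 k2 k3 k4 (fun w w1 w2 w3 w4 => rho_fix h w1 w2 w3 w4 _) v]

/-- two singular opposite Siegel groups -/
theorem S_eq_S {e f : V} (h : Hyp Q e f) {a b : V} (ha : a ∈ Dp Q e f) (hb : b ∈ Dp Q e f)
    (hab : S Q e a = S Q f b) : a = 0 ∧ b = 0 := by
  have h1 : ap (S Q e a) e = ap (S Q f b) e := by rw [hab]
  rw [S_ap h.left ha.1, S_ap h.right hb.2, polar_self_of_sing h.left, polar_comm Q f e, h.pair,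
    polar_comm Q b e, hb.1, polar_comm Q a e, ha.1] at h1
  have h3 : b = Q b • f := by
    have h4 : b - Q b • f = 0 := by
      have : b - Q b • f = (e + (1 : F) • b - (0 : F) • f - (Q b * 1) • f) -
        (e + (0 : F) • a - (0 : F) • e - (Q a * 0) • e) := by module
      rw [this, h1, sub_self]
    exact sub_eq_zero.1 h4
  have h5 : Q b = 0 := by
    have h6 := hb.1
    rw [h3, polar_smul_right, h.pair, smul_eq_mul, mul_one] at h6
    exact h6
  have hb0 : b = 0 := by rw [h3, h5, zero_smul]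
  refine ⟨?_, hb0⟩
  apply S_inj h ha (Dp Q e f).zero_mem
  rw [hab, hb0, S_zero, S_zero]

/-- a lower bound for `|E Q|` -/
theorem card_E_ge [Finite F] [FiniteDimensional F V] {e f : V} (h : Hyp Q e f) {n : ℕ} (hn : finrank F V = n + 2) :
    Nat.card F ^ n * Nat.card F ^ n ≤ Nat.card ↥(E Q) := by
  have hfin : Finite V := Module.finite_of_finite F
  have hfinE : Finite ↥(E Q) := finite_E
  rw [← card_Dp h hn, ← Nat.card_prod]
  refine Nat.card_le_card_of_injective (fun x : Dp Q e f × Dp Q e f => S Q e (x.1 : V) * S Q f (x.2 : V)) ?_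
  rintro ⟨a, b⟩ ⟨a', b'⟩ hx
  have hx' : S Q e (a : V) * S Q f (b : V) = S Q e (a' : V) * S Q f (b' : V) := hx
  have h1 : (S Q e (a' : V))⁻¹ * S Q e (a : V) = S Q f (b' : V) * (S Q f (b : V))⁻¹ := by
    rw [eq_mul_inv_iff_mul_eq, mul_assoc, hx', inv_mul_cancel_left]
  have hn1 : polar Q e (-(a' : V)) = 0 := by rw [polar_neg_right, a'.2.1, neg_zero]
  have hn2 : polar Q f (-(b : V)) = 0 := by rw [polar_neg_right, b.2.2, neg_zero]
  rw [S_inv h.left a'.2.1, S_inv h.right b.2.2, ← S_add h.left hn1 a.2.1, ← S_add h.right b'.2.2 hn2] at h1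
  obtain ⟨h3, h4⟩ := S_eq_S h ((Dp Q e f).add_mem ((Dp Q e f).neg_mem a'.2) a.2)
    ((Dp Q e f).add_mem b'.2 ((Dp Q e f).neg_mem b.2)) h1
  refine Prod.ext (Subtype.ext ?_) (Subtype.ext ?_)
  · exact (neg_add_eq_zero.1 h3).symm
  · exact (add_neg_eq_zero.1 h4).symm

/-- the index of a group of scalars -/
theorem index_scalar_ge [Finite F] [FiniteDimensional F V] (h2 : (2 : F) ≠ 0) (hG : Good Q) {n : ℕ}
    (hn : finrank F V = n + 2) {N : Subgroup ↥(E Q)} (hN : ∀ x ∈ N, ∃ c : F, ∀ v, ap x v = c • v) :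
    Nat.card F ^ n * Nat.card F ^ n ≤ 2 * N.index := by
  classical
  have hfin : Finite V := Module.finite_of_finite F
  have hfinE : Finite ↥(E Q) := finite_E
  obtain ⟨x, hx⟩ : ∃ x : V, Q x ≠ 0 := by
    by_contra hcon
    push Not at hcon
    have h3 : ∀ v : V, v = 0 := fun v => hG.nondeg v fun y => by simp [polar, hcon]
    have : Subsingleton V := ⟨fun a b => (h3 a).trans (h3 b).symm⟩
    rw [finrank_zero_of_subsingleton] at hn
    omega
  have key : ∀ y ∈ N, y = 1 ∨ ∀ v, ap y v = -v := by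
    intro y hy
    obtain ⟨c, hc⟩ := hN y hy
    have h3 : Q (c • x) = Q x := by rw [← hc, Q_ap]
    rw [QuadraticMap.map_smul, smul_eq_mul] at h3
    have h4 : c * c = 1 := mul_right_cancel₀ hx (h3.trans (one_mul _).symm)
    rcases mul_self_eq_one_iff.1 h4 with rfl | rfl
    · left
      exact ext_ap fun v => by rw [hc, one_smul, ap_one]
    · right
      exact fun v => by rw [hc, neg_one_smul]
  have hcN : Nat.card N ≤ 2 := by
    have h3 : Nat.card N ≤ Nat.card Bool := by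
      refine Nat.card_le_card_of_injective (fun y : N => decide ((y : ↥(E Q)) = 1)) ?_
      intro y y' hyy
      have h4 : ((y : ↥(E Q)) = 1 ↔ (y' : ↥(E Q)) = 1) := by simpa using hyy
      apply Subtype.ext
      rcases key y y.2 with h5 | h5
      · rw [h5, h4.1 h5]
      · rcases key y' y'.2 with h6 | h6
        · rw [h6, h4.2 h6]
        · exact ext_ap fun v => by rw [h5, h6]
    rwa [Nat.card_eq_fintype_card (α := Bool), Fintype.card_bool] at h3
  obtain ⟨e, f, hef⟩ : ∃ e f, Hyp Q e f := by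
    obtain ⟨e, f, hef⟩ := hG.exists_hyp
    exact ⟨e, f, hef⟩
  have h3 := card_E_ge hef hn
  rw [← N.card_mul_index] at h3
  exact h3.trans (Nat.mul_le_mul_right _ hcN)

/-- two commuting `SL₂` -/
noncomputable def psi1 {e₁ f₁ e₂ f₂ : V} (h : Four Q e₁ f₁ e₂ f₂) :
    SpecialLinearGroup (Fin 2) F × SpecialLinearGroup (Fin 2) F →* ↥(E Q) :=
  MonoidHom.noncommCoprod h.rhoE h.swap.rhoE fun a b => H100.IF.comm h a b

theorem psi1_apply {e₁ f₁ e₂ f₂ : V} (h : Four Q e₁ f₁ e₂ f₂) (a b : SpecialLinearGroup (Fin 2) F) :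
    psi1 h (a, b) = h.rhoE a * h.swap.rhoE b := rfl

theorem comm_xt (h2 : (2 : F) ≠ 0) {z : ↥(E Q)} (hz : z * z = 1) {x : ↥(E Q)} (hx : ∀ v, ap z v = v → ap x v = v)
    (hxz : x * z = z * x) (y : ↥(E (QU Q (Fix z)))) : x * xt h2 hz y = xt h2 hz y * x := by
  apply ext_ap
  intro v
  obtain ⟨u, w, rfl⟩ := H112.Row2.OrthExt.exists_dec (H198.IF.isCompl h2 hz) v
  have hxw : ap x (w : V) ∈ Neg z := by
    rw [mem_Neg, ← ap_mul, ← hxz, ap_mul]
    have : ap z (w : V) = -(w : V) := w.2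
    rw [this, ap_neg]
  rw [ap_mul, ap_mul, ap_add, ap_add, ap_add, ap_add, xt_left, xt_right h2 hz y w.2, hx _ (ap y u).2, hx _ u.2,
    xt_left, xt_right h2 hz y hxw]

theorem psi1_fix (h2 : (2 : F) ≠ 0) {e₁ f₁ e₂ f₂ : V} (h : Four Q e₁ f₁ e₂ f₂)
    (x : SpecialLinearGroup (Fin 2) F × SpecialLinearGroup (Fin 2) F) (v : V)
    (hv : ap (h.rhoE (neg₂ F)) v = v) : ap (psi1 h x) v = v := by
  obtain ⟨a, b⟩ := x
  obtain ⟨h3, h4⟩ := H100.IF.fix_z h h2 hv a b
  rw [psi1_apply, ap_mul, h4, h3]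

theorem neg₂_comm (a : SpecialLinearGroup (Fin 2) F) : neg₂ F * a = a * neg₂ F := by
  apply Subtype.ext
  change (-1 : Matrix (Fin 2) (Fin 2) F) * a.1 = a.1 * -1
  rw [neg_one_mul, mul_neg_one]

theorem psi1_comm {e₁ f₁ e₂ f₂ : V} (h : Four Q e₁ f₁ e₂ f₂)
    (x : SpecialLinearGroup (Fin 2) F × SpecialLinearGroup (Fin 2) F) :
    psi1 h x * h.rhoE (neg₂ F) = h.rhoE (neg₂ F) * psi1 h x := by
  obtain ⟨a, b⟩ := x
  rw [psi1_apply, mul_assoc, ← H100.IF.comm h (neg₂ F) b, ← mul_assoc, ← map_mul, ← neg₂_comm, map_mul, mul_assoc]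

/-- the centraliser of a fundamental involution -/
noncomputable def psi (h2 : (2 : F) ≠ 0) {e₁ f₁ e₂ f₂ : V} (h : Four Q e₁ f₁ e₂ f₂)
    (hz : h.rhoE (neg₂ F) * h.rhoE (neg₂ F) = 1) :
    (SpecialLinearGroup (Fin 2) F × SpecialLinearGroup (Fin 2) F) × ↥(E (QU Q (Fix (h.rhoE (neg₂ F))))) →* ↥(E Q) :=
  MonoidHom.noncommCoprod (psi1 h) (xt h2 hz) fun x y =>
    comm_xt h2 hz (fun v hv => psi1_fix h2 h x v hv) (psi1_comm h x) y

theorem psi_apply (h2 : (2 : F) ≠ 0) {e₁ f₁ e₂ f₂ : V} (h : Four Q e₁ f₁ e₂ f₂)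
    (hz : h.rhoE (neg₂ F) * h.rhoE (neg₂ F) = 1) (x : SpecialLinearGroup (Fin 2) F × SpecialLinearGroup (Fin 2) F)
    (y : ↥(E (QU Q (Fix (h.rhoE (neg₂ F)))))) : psi h2 h hz (x, y) = psi1 h x * xt h2 hz y := rfl

theorem Vm_eq_Neg (t : ↥(E Q)) : Vm t = Neg t := by
  ext v
  rw [mem_Vm, mem_Neg]

/-- the `-1` space of `xt y` -/
theorem finrank_Vm_xt [FiniteDimensional F V] (h2 : (2 : F) ≠ 0) {z : ↥(E Q)} (hz : z * z = 1)
    (y : ↥(E (QU Q (Fix z)))) : finrank F (Vm (xt h2 hz y)) = finrank F (Neg y) := by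
  have h1 : Vm (xt h2 hz y) = (Neg y).map (Fix z).subtype := by
    ext v
    rw [mem_Vm, Submodule.mem_map]
    constructor
    · intro hv
      obtain ⟨u, w, rfl⟩ := H112.Row2.OrthExt.exists_dec (H198.IF.isCompl h2 hz) v
      rw [ap_add, xt_left, xt_right h2 hz y w.2] at hv
      have h3 : ((ap y u + u : Fix z) : V) = -((2 : F) • (w : V)) := by
        have h4 : ((ap y u : Fix z) : V) = -((u : V) + w) - w := eq_sub_of_add_eq hv
        rw [Submodule.coe_add, h4]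
        module
      have h4 : ((ap y u + u : Fix z) : V) ∈ Neg z := by
        rw [h3]
        exact (Neg z).neg_mem ((Neg z).smul_mem _ w.2)
      have h5 : ((ap y u + u : Fix z) : V) = 0 :=
        (Submodule.disjoint_def.1 (H198.IF.isCompl h2 hz).disjoint) _ (ap y u + u : Fix z).2 h4
      have h6 : (w : V) = 0 := by
        rw [h5] at h3
        have h7 : (2 : F) • (w : V) = 0 := neg_eq_zero.1 h3.symm
        exact (smul_eq_zero.1 h7).resolve_left h2
      refine ⟨u, ?_, by rw [h6, add_zero]; rfl⟩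
      rw [mem_Neg]
      exact eq_neg_of_add_eq_zero_left (Subtype.ext h5)
    · rintro ⟨u, hu, rfl⟩
      change ap (xt h2 hz y) (u : V) = -(u : V)
      rw [xt_left, mem_Neg.1 hu]
      rfl
  rw [h1]
  exact Submodule.finrank_map_subtype_eq (Fix z) (Neg y)

/-- an involution of rank 2 -/
theorem exists_t2 [FiniteDimensional F V] (h2 : (2 : F) ≠ 0) (hG : Good Q) :
    ∃ t : ↥(E Q), t * t = 1 ∧ finrank F (Neg t) = 2 := by
  obtain ⟨e₁, f₁, h1⟩ := hG.exists_hyp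
  obtain ⟨e₂, f₂, h3, a1, a2, a3, a4⟩ := hG.exists_hyp2 h1
  have h : Four Q e₁ f₁ e₂ f₂ := ⟨h1, h3, a1, a2, a3, a4⟩
  let a : SpecialLinearGroup (Fin 2) F := ⟨!![0, 1; -1, 0], by simp [Matrix.det_fin_two]⟩
  have ha : a * a = neg₂ F := by
    apply Subtype.ext
    change (!![0, 1; -1, 0] : Matrix (Fin 2) (Fin 2) F) * !![0, 1; -1, 0] = -1
    ext i j
    fin_cases i <;> fin_cases j <;> simp [Matrix.mul_apply, Fin.sum_univ_two]
  exact ⟨_, H100.IF.t2_mul h h2 hG.nondeg ha ha⟩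

/-- (E2) without a covering -/
theorem e2_id {G : Type*} [Group G] [Finite G] [IsSimpleGroup G] {A : Subgroup G} {Γ : Subgroup (MulAut G)}
    (h : IF A Γ) (hna : ∃ a b : G, a * b ≠ b * a) {t : G} (ht : t ∈ A) (ht1 : t ≠ 1) (ht2 : t * t = 1)
    {B : Subgroup G} (hB : ∀ b ∈ B, b * t = t * b) :
    A.relIndex B ^ 5 < (Subgroup.centralizer ({t} : Set G)).index := by
  have h5 := H847.IF.lift_E2 h hna (MonoidHom.id G) (fun x => ⟨x, rfl⟩) (t := t) ht ht1 ht2 (B := B) hB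
  rwa [Subgroup.comap_id] at h5

theorem comm3 {G : Type*} [Group G] (a b z : G) (h1 : b * z = z * b) (h2 : a * z = z * a) :
    (a * b) * z = z * (a * b) := by
  rw [mul_assoc, h1, ← mul_assoc, h2, mul_assoc]

theorem psi_comm (h2 : (2 : F) ≠ 0) {e₁ f₁ e₂ f₂ : V} (h : Four Q e₁ f₁ e₂ f₂)
    (hz : h.rhoE (neg₂ F) * h.rhoE (neg₂ F) = 1) :
    ∀ b ∈ (psi h2 h hz).range, b * h.rhoE (neg₂ F) = h.rhoE (neg₂ F) * b := by
  intro b hb
  obtain ⟨⟨x, y⟩, hxy⟩ := MonoidHom.mem_range.1 hb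
  rw [← hxy]
  exact comm3 _ _ _ (xt_comm h2 hz y) (psi1_comm h x)

/-- `E Q` is not abelian -/
theorem not_comm_of_fund [FiniteDimensional F V] (h2 : (2 : F) ≠ 0) (hG : Good Q) {z : ↥(E Q)}
    (hz : Fund Q z) : ∃ a b : ↥(E Q), a * b ≠ b * a := by
  by_contra hcon
  push Not at hcon
  have hc : z ∈ Subgroup.center ↥(E Q) := Subgroup.mem_center_iff.2 fun g => hcon g z
  obtain ⟨c, hc⟩ := Cfsg.Agent.ClassicalGeometry.OrthAut1.center_scalar hG hc
  have hd := finrank_Vm_fund h2 hz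
  have h4 : Vm z ≠ ⊥ := by
    intro h5
    rw [h5, finrank_bot] at hd
    omega
  obtain ⟨v, hv, hv0⟩ := (Submodule.ne_bot_iff _).1 h4
  have h6 : c = -1 := by
    have h7 : c • v = -v := (hc v).symm.trans (mem_Vm.1 hv)
    have h8 : (c + 1) • v = 0 := by rw [add_smul, h7, one_smul, neg_add_cancel]
    exact eq_neg_of_add_eq_zero_left ((smul_eq_zero.1 h8).resolve_right hv0)
  have h7 : Vm z = ⊤ := by
    rw [eq_top_iff]
    intro v _
    rw [mem_Vm]
    exact (hc v).trans (by rw [h6, neg_one_smul])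
  rw [h7, finrank_top] at hd
  have := hG.dim
  omega

/-- the group theoretical end -/
theorem nine_core {S H G : Type*} [Group S] [Group H] [Group G] [Finite S] [Finite H] (A : Subgroup G)
    (Ψ : S × H →* G) (q : ℕ) (hlt : (A.comap Ψ).index < q ^ 4)
    (hS : q + 1 ≤ (A.comap (Ψ.comp (MonoidHom.inl S H))).index) (hH : ∀ R : Subgroup H, R ≠ ⊤ → q ^ 3 ≤ R.index)
    (hdic : ∀ N : Subgroup H, (∀ p n, n ∈ N → p * n * p⁻¹ ∈ N) → N = ⊤ ∨ q ^ 4 ≤ N.index)
    (hNtop : A.comap (Ψ.comp (MonoidHom.inr S H)) ≠ ⊤) : False := by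
  have hprod := H59.IF.index_prod (A.comap Ψ)
  rw [Subgroup.comap_comap] at hprod
  by_cases hR : (A.comap Ψ).map (MonoidHom.snd S H) = ⊤
  · rcases hdic ((A.comap Ψ).comap (MonoidHom.inr S H)) (fun p n hn => H59.IF.conj_inr (A.comap Ψ) (p := p)
      (by rw [hR]; exact Subgroup.mem_top _) hn) with h5 | h5
    · exact hNtop h5
    · have h7 := H59.IF.index_inr_le (A.comap Ψ)
      omega
  · have h5 := hH _ hR
    have h6 : (q + 1) * q ^ 3 ≤ (A.comap Ψ).index := by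
      rw [hprod]
      exact Nat.mul_le_mul hS h5
    have h7 : (q + 1) * q ^ 3 = q ^ 4 + q ^ 3 := by ring
    omega

theorem num_nine {q i : ℕ} (hq : 3 ≤ q) (h : q ^ 3 * q ^ 3 ≤ 2 * i) : q ^ 4 ≤ i := by
  have h9 : 2 * q ^ 4 ≤ q ^ 3 * q ^ 3 := by
    calc 2 * q ^ 4 ≤ q ^ 2 * q ^ 4 := by
          apply Nat.mul_le_mul_right
          nlinarith
      _ = q ^ 3 * q ^ 3 := by ring
  exact Nat.le_of_mul_le_mul_left (h9.trans h) (by norm_num)

/-- a normal subgroup of a subgroup, mapped -/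
theorem map_conj_mem {G : Type*} [Group G] {S : Subgroup G} {N : Subgroup S} (hN : ∀ p n, n ∈ N → p * n * p⁻¹ ∈ N) :
    ∀ g ∈ S, ∀ n ∈ N.map S.subtype, g * n * g⁻¹ ∈ N.map S.subtype := by
  rintro g hg n' ⟨n, hn, hn'⟩
  refine ⟨⟨g, hg⟩ * n * (⟨g, hg⟩ : S)⁻¹, hN ⟨g, hg⟩ n hn, ?_⟩
  rw [map_mul, map_mul, map_inv, hn']
  rfl

theorem eq_top_of_map {G : Type*} [Group G] {S : Subgroup G} {N : Subgroup S} (h : N.map S.subtype = S) : N = ⊤ := by
  rw [eq_top_iff]
  intro y _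
  have h6 : y.1 ∈ N.map S.subtype := by rw [h]; exact y.2
  obtain ⟨y', hy', he⟩ := h6
  have h7 : y' = y := Subtype.ext he
  rw [← h7]
  exact hy'

/-- normal subgroups of `E Q` -/
theorem normal_dich [FiniteDimensional F V] (hG : Good Q)
    (N : Subgroup ↥(E Q)) (hN : ∀ p n, n ∈ N → p * n * p⁻¹ ∈ N) : N = ⊤ ∨ ∀ x ∈ N, ∃ c : F, ∀ v, ap x v = c • v := by
  rcases good_normal_dichotomy hG (Subgroup.map_subtype_le N) (map_conj_mem hN) with h5' | h5'
  · exact Or.inr fun x hx => h5' x.1 ⟨x, hx, rfl⟩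
  · exact Or.inl (eq_top_of_map h5')

theorem normal_or_index [Finite F] [FiniteDimensional F V] (h2 : (2 : F) ≠ 0) (hG : Good Q) (h5 : finrank F V = 5)
    (N : Subgroup ↥(E Q)) (hN : ∀ p n, n ∈ N → p * n * p⁻¹ ∈ N) : N = ⊤ ∨ Nat.card F ^ 4 ≤ N.index := by
  rcases normal_dich hG N hN with h6 | h6
  · exact Or.inl h6
  · exact Or.inr (num_nine (three_le_q h2) (index_scalar_ge h2 hG (n := 3) h5 h6))

/-- the numerical end -/
theorem index_comap_lt {G S : Type*} [Group G] [Group S] {A : Subgroup G} {Ψ : S →* G} {q c : ℕ}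
    (h5 : A.relIndex Ψ.range ^ 5 < c) (h6 : c ≤ q ^ (4 * 5)) : (A.comap Ψ).index < q ^ 4 := by
  rw [Subgroup.index_comap]
  by_contra hcon
  push Not at hcon
  have h8 : (q ^ 4) ^ 5 ≤ A.relIndex Ψ.range ^ 5 := Nat.pow_le_pow_left hcon 5
  rw [← pow_mul] at h8
  exact absurd (lt_of_le_of_lt h8 (lt_of_lt_of_le h5 h6)) (lt_irrefl _)

/-- **`N = 9`** -/
theorem nine [Finite F] [FiniteDimensional F V] (h2 : (2 : F) ≠ 0) (hG : Good Q) [IsSimpleGroup ↥(E Q)]
    (hN : finrank F V = 9) {A : Subgroup ↥(E Q)} {Γ : Subgroup (MulAut ↥(E Q))} (h : IF A Γ)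
    (hno : ∀ t ∈ A, t * t = 1 → finrank F (Vm t) ≠ 2) {z : ↥(E Q)} (hz : Fund Q z) (hzA : z ∈ A) : False := by
  have hfin : Finite V := Module.finite_of_finite F
  have hfinE : Finite ↥(E Q) := finite_E
  have hq3 := three_le_q h2
  have hna := not_comm_of_fund h2 hG hz
  obtain ⟨e₁, f₁, e₂, f₂, h4, rfl⟩ := exists_rho h2 hz
  have hsq := hz.sq
  have hcl := cls_le h2 hG (by omega) hsq (finrank_Vm_fund h2 hz)
  rw [hN] at hcl
  have hXlt := index_comap_lt (e2_id h hna hzA (hz.ne_one h2) hsq (psi_comm h2 h4 hsq)) hcl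
  have hfinH : Finite ↥(E (QU Q (Fix (h4.rhoE (neg₂ F))))) := finite_E
  have hU5 : finrank F (Fix (h4.rhoE (neg₂ F))) = 5 := by
    have := finrank_Fix h2 hz
    omega
  have hQU : Nondeg (QU Q (Fix (h4.rhoE (neg₂ F)))) :=
    H198.IF.nondeg_QU hG.nondeg (H198.IF.isCompl h2 hsq) (orth h2)
  have hGU : Good (QU Q (Fix (h4.rhoE (neg₂ F)))) := OrthFinite.good_of_finite hQU (by rw [hU5])
  have e1 : (psi h2 h4 hsq).comp (MonoidHom.inl _ _) = psi1 h4 := MonoidHom.noncommCoprod_comp_inl _ _ _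
  have e2 : (psi h2 h4 hsq).comp (MonoidHom.inr _ _) = xt h2 hsq := MonoidHom.noncommCoprod_comp_inr _ _ _
  refine nine_core A (psi h2 h4 hsq) (Nat.card F) hXlt ?_ (fun R hR => H237.IF.min_index_five h2 hQU hU5 R hR)
    (fun N hN => normal_or_index h2 hGU hU5 N hN) ?_
  · rw [e1]
    apply H59.IF.ss_index h2
    · rw [Subgroup.mem_comap, psi1_apply, map_one, mul_one]
      exact hzA
    · rw [Subgroup.mem_comap, psi1_apply, map_one, one_mul, H100.IF.swap_neg]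
      exact hzA
    · intro a b ha hb hab
      rw [Subgroup.mem_comap, psi1_apply] at hab
      obtain ⟨h6, h7⟩ := H100.IF.t2_mul h4 h2 hG.nondeg ha hb
      apply hno _ hab h6
      rw [Vm_eq_Neg]
      exact h7
  · rw [e2]
    intro htop
    obtain ⟨t, ht, ht2⟩ := exists_t2 h2 hGU
    have h5 : t ∈ A.comap (xt h2 hsq) := by rw [htop]; exact Subgroup.mem_top _
    rw [Subgroup.mem_comap] at h5
    apply hno _ h5 (by rw [← map_mul, ht, map_one])
    rw [finrank_Vm_xt, ht2]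

end Cfsg.Agent.H989.Fx
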